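import Cfsg.Agent.H872.Rad3.Inner
import Cfsg.Agent.H198.TriBase

/-!
# Radical automorphisms of order three of `Ω₈⁻(2)` (helper872, task 1208 of helper959)

* `false_of_psi` : an automorphism of order three of `P Q` induced by a semisimilarity is not radical (`|F| = 2`,
  dimension at least seven);
* `irow_of_surj`, `irow_o8m2`.
-/

set_option autoImplicit false
set_option linter.unusedSectionVars false

namespace Cfsg.Agent.H872.Rad3

open QuadraticMap Module Subgroup
open Cfsg.Agent.LieClassical.OrthCore Cfsg.Agent.LieClassical.OrthTrans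
  Cfsg.Agent.LieClassical.OrthSimple Cfsg.Agent.LieClassical.OrthFinite
open Cfsg.Agent.ClassicalGeometry.OrthAut1 Cfsg.Agent.ClassicalGeometry.OrthSemi Cfsg.Agent.H198.Classes
open Cfsg.Agent.H459.Rad Cfsg.Agent.H459.Iface Cfsg.Agent.H959.Rad3

variable {F V : Type*} [Field F] [Fintype F] [AddCommGroup V] [Module F V] {Q : QuadraticForm F V}

/-- a ring automorphism of the field with two elements -/
theorem ringEquiv_eq_refl (hF : Fintype.card F = 2) (σ : F ≃+* F) : σ = RingEquiv.refl F := by
  ext a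
  rcases zero_or_one hF a with h | h
  · rw [h, map_zero, map_zero]
  · rw [h, map_one, map_one]

/-- over the field with two elements every semisimilarity is an isometry -/
theorem exists_isometry (hF : Fintype.card F = 2) (M : Gam Q) : ∃ g : O Q, gamO Q g = M := by
  obtain ⟨σ, c, h⟩ := M.2
  have h1 : σ = RingEquiv.refl F := ringEquiv_eq_refl hF σ
  have h2 : c = 1 := CpAutOEight.card_units hF h.ne
  subst h1 h2
  exact H198.TriBase.exists_gamO h

theorem false_of_psi [FiniteDimensional F V] (hF : Fintype.card F = 2) (hG : Good Q) (h7 : 7 ≤ finrank F V)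
    {x : MulAut (P Q)} (hx : x ∈ (Psi Q).range) (ho : orderOf x = 3) (hR : RC x) : False := by
  have := finite_E (Q := Q)
  obtain ⟨M, rfl⟩ := hx
  obtain ⟨g, rfl⟩ := exists_isometry hF M
  have h3 : gamO Q g ^ 3 = 1 := by
    have h4 : gamO Q g ^ 3 ∈ (Psi Q).ker := by
      rw [MonoidHom.mem_ker, map_pow, ← ho, pow_orderOf_eq_one]
    rw [ker_Psi hG] at h4
    obtain ⟨c, hc⟩ := h4
    have hc1 : c = 1 := Units.ext (CpAutOEight.card_units hF c.ne_zero)
    rw [← hc, hc1, map_one]
  have h3' : ∀ v, g.1 (g.1 (g.1 v)) = v := by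
    intro v
    have h4 : (gamO Q g ^ 3).1 v = v := by rw [h3]; rfl
    exact h4
  have h1 : g.1 ≠ 1 := by
    intro h
    have h4 : g = 1 := Subtype.ext h
    rw [h4, map_one, map_one, orderOf_one] at ho
    norm_num at ho
  refine false_of_inner hF hG h7 g.2 h3' h1 (x := tr (CpAutOEight.toP hF hG).symm (Psi Q (gamO Q g))) ?_ (hR.tr _)
  intro h
  rw [tr_apply]
  change (((CpAutOEight.toP hF hG).symm (Psi Q (gamO Q g) (CpAutOEight.toP hF hG h)) : E Q) : V ≃ₗ[F] V) = _
  rw [CpAutOEight.toP_apply, Psi_mk]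
  have h4 : (CpAutOEight.toP hF hG).symm (QuotientGroup.mk (conjE Q (gamO Q g) h)) = conjE Q (gamO Q g) h := by
    rw [← CpAutOEight.toP_apply hF hG, MulEquiv.symm_apply_apply]
  rw [h4]
  apply LinearEquiv.ext
  intro v
  rfl

theorem irow_of_surj [FiniteDimensional F V] (hF : Fintype.card F = 2) (hG : Good Q) (h7 : 7 ≤ finrank F V)
    (hs : Function.Surjective (Psi Q)) : IRow (P Q) := fun _ ho hR _ => false_of_psi hF hG h7 (hs _) ho hR

/-- **Row `Ω₈⁻(2)`, order three.** -/
theorem irow_o8m2 {K : Type*} [Group K] [Finite K] [IsSimpleGroup K] {F : Type} [Field F] [Fintype F]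
    (hF : Fintype.card F = 2) {a b : F}
    (hab : ∀ z₁ z₂ : F, z₁ ^ 2 + a * z₁ * z₂ + b * z₂ ^ 2 = 0 → z₁ = 0 ∧ z₂ = 0)
    (e : Nonempty (K ≃* Cfsg.POmega F (Cfsg.quadFormMinus 3 F a b))) : IRow K := by
  obtain ⟨e⟩ := e
  have hG : Good (LieClassical.QuadForms.minusForm 3 F a b) := AutOrth.Main.good_minus (by norm_num) hab
  have hs : Function.Surjective (Psi (LieClassical.QuadForms.minusForm 3 F a b)) := by
    have h := AutOrth.Final.surjective_minus (m := 3) le_rfl hab
    rwa [AutOrth.Main.minusForm_eq] at h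
  have e2 : K ≃* P (LieClassical.QuadForms.minusForm 3 F a b) := by
    refine e.trans ?_
    rw [← LieClassical.QuadForms.coe_minusForm]
    exact AutOrth.Main.pe hG
  have := finite_E (Q := LieClassical.QuadForms.minusForm 3 F a b)
  exact IRow.congr e2 (irow_of_surj hF hG (by
    rw [Module.finrank_fintype_fun_eq_card, Fintype.card_sum, Fintype.card_sum, Fintype.card_fin, Fintype.card_fin]
    norm_num) hs)

end Cfsg.Agent.H872.Rad3
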