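import Cfsg.Agent.H872.Rad3.PlusWords

/-!
# Row `Ω₈⁺(2)`, order three (helper872, task 1208 of helper959)

* `irow_P8`, `irow_o8p2` : inner automorphisms and triality; `Minus.irow_o8m2` is the row `Ω₈⁻(2)`.
-/

set_option autoImplicit false
set_option linter.unusedSectionVars false

namespace Cfsg.Agent.H872.Rad3

open QuadraticMap Module Subgroup
open Cfsg.Agent.LieClassical.OrthCore Cfsg.Agent.LieClassical.OrthTrans
  Cfsg.Agent.LieClassical.OrthSimple Cfsg.Agent.LieClassical.OrthFinite
open Cfsg.Agent.LieClassical.QuadForms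
open Cfsg.Agent.ClassicalGeometry.OrthAut1 Cfsg.Agent.ClassicalGeometry.OrthSemi Cfsg.Agent.H198.Classes
open Cfsg.Agent.ClassicalGeometry.TrialityOct Cfsg.Agent.ClassicalGeometry.Triality
open Cfsg.Agent.H198.TriBase Cfsg.Agent.H198.TriAut Cfsg.Agent.H198.TriDia
open Cfsg.Agent.H459.Rad Cfsg.Agent.H459.Iface Cfsg.Agent.H959.Rad3

theorem irow_gen {F : Type} [Field F] [Fintype F] (hF : Fintype.card F = 2)
    (hr : RC (rho (CpAutOEight.good8 (F := F))) → False)
    (hB : RC (Psi _ (tauB F) * rho (CpAutOEight.good8 (F := F))) → False) : IRow (P8 F) := by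
  have := finite_P8 (F := F)
  intro x ho hR _
  set hG := CpAutOEight.good8 (F := F) with hGd
  by_cases hx : x ∈ (Psi (plusForm 4 F)).range
  · refine false_of_psi hF hG ?_ hx ho hR
    rw [Module.finrank_fintype_fun_eq_card, Fintype.card_sum, Fintype.card_fin]
    norm_num
  · have h3 : x ^ 3 = 1 := by rw [← ho, pow_orderOf_eq_one]
    obtain ⟨α, τ, hτ, hτ3, h, v, hv0, hvv, hv⟩ := H198.TriCls.classify hG hx h3
    have hRτ : RC (xt hG τ) := by
      rcases h with h | h
      · rw [← h]; exact rc_conj_aut hR α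
      · rw [← h]; exact rc_conj_aut (rc_inv hR) α
    have hl : IsLin τ := by
      obtain ⟨σ, c, hs⟩ := τ.2
      have h1 : σ = RingEquiv.refl F := ringEquiv_eq_refl hF σ
      subst h1
      exact ⟨c, hs⟩
    have h3F : (3 : F) ≠ 0 := by
      have h2 := two_eq_zero (F := F) hF
      have e : (3 : F) = 2 + 1 := by norm_num
      rw [e, h2, zero_add]
      exact one_ne_zero
    rcases H161.TriLin.lin_normal h3F hτ hl hτ3 hv0 hvv hv with rfl | ⟨N, hN, hc⟩
    · apply hr
      have e : xt hG (1 : G8 F) = rho hG := by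
        unfold xt
        rw [map_one (Psi (plusForm 4 F)), one_mul]
      rwa [e] at hRτ
    · apply hB
      have h1 := rc_conj_aut hRτ (Psi _ N)
      rwa [xt_conj hG τ hN, hc] at h1

theorem irow_P8 : IRow (P8 (ZMod 2)) := irow_gen hF2 false_of_rho false_of_tauB

/-- **Row `Ω₈⁺(2)`, order three.** -/
theorem irow_o8p2 {K : Type*} [Group K] [Finite K] [IsSimpleGroup K] {F : Type} [Field F] [Fintype F]
    (hF : Fintype.card F = 2) (e : Nonempty (K ≃* Cfsg.POmega F (Cfsg.quadFormPlus 4 F))) : IRow K := by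
  obtain ⟨e⟩ := e
  obtain ⟨e1⟩ := StdO8.Model.exists_equiv hF
  have := finite_P8 (F := ZMod 2)
  exact IRow.congr ((e.trans e1).trans (CpAutOEight.toP hF2 (CpAutOEight.good8 (F := ZMod 2)))) irow_P8

end Cfsg.Agent.H872.Rad3
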