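import Cfsg.Agent.H198.TriBase

/-!
# Codes for the split octonions over the field with two elements (helper872, task 1208 of helper959)

`vec n`, `n < 256` : the octonion with the bits of `n` as coordinates; `ap m n` : the value of the linear map with the
columns `m`; `omc a b` : the product; `Cd L m` : the additive map `L` has the columns `m`.
-/

set_option autoImplicit false
set_option linter.unusedSectionVars false

namespace Cfsg.Agent.H872.Rad3

open Cfsg.Agent.ClassicalGeometry.TrialityOct Cfsg.Agent.ClassicalGeometry.Triality Cfsg.Agent.H198.TriBase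

/-- the bit as an element of the field -/
def bitF (n k : ℕ) : ZMod 2 := bif n.testBit k then 1 else 0

/-- the octonion with code `n` -/
def vec (n : ℕ) : V8 (ZMod 2) := Sum.elim (fun j : Fin 4 => bitF n j) (fun j : Fin 4 => bitF n (4 + j))

theorem bitF_xor (a b k : ℕ) : bitF (Nat.xor a b) k = bitF a k + bitF b k := by
  unfold bitF
  have h : (Nat.xor a b).testBit k = (a.testBit k ^^ b.testBit k) := Nat.testBit_xor a b k
  rw [h]
  cases a.testBit k <;> cases b.testBit k <;> decide

theorem vec_xor (a b : ℕ) : vec (Nat.xor a b) = vec a + vec b := by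
  funext i
  rcases i with i | i
  · exact bitF_xor a b _
  · exact bitF_xor a b _

theorem vec_zero : vec 0 = 0 := by
  funext i
  rcases i with i | i <;> simp [vec, bitF]

/-- selection -/
def sel (b : Bool) (x : ℕ) : ℕ := bif b then x else 0

/-- the value of the linear map with columns `m` -/
def ap (m : List ℕ) (n : ℕ) : ℕ :=
  Nat.xor (sel (n.testBit 0) (m.getD 0 0)) (Nat.xor (sel (n.testBit 1) (m.getD 1 0))
    (Nat.xor (sel (n.testBit 2) (m.getD 2 0)) (Nat.xor (sel (n.testBit 3) (m.getD 3 0))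
    (Nat.xor (sel (n.testBit 4) (m.getD 4 0)) (Nat.xor (sel (n.testBit 5) (m.getD 5 0))
    (Nat.xor (sel (n.testBit 6) (m.getD 6 0)) (sel (n.testBit 7) (m.getD 7 0))))))))

/-- the columns of the identity -/
def idl : List ℕ := [1, 2, 4, 8, 16, 32, 64, 128]

def allLt (k : ℕ) (p : ℕ → Bool) : Bool := Nat.rec true (fun i r => p i && r) k

theorem allLt_iff {k : ℕ} {p : ℕ → Bool} : allLt k p = true ↔ ∀ i < k, p i = true := by
  induction k with
  | zero => simp [allLt]
  | succ k ih =>
    change (p k && allLt k p) = true ↔ _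
    rw [Bool.and_eq_true, ih]
    constructor
    · rintro ⟨h1, h2⟩ i hi
      rcases Nat.lt_succ_iff_lt_or_eq.1 hi with h | rfl
      · exact h2 i h
      · exact h1
    · intro h
      exact ⟨h k (Nat.lt_succ_self k), fun i hi => h i (Nat.lt_succ_of_lt hi)⟩

theorem ap_idl : ∀ n < 256, ap idl n = n := by
  have h : allLt 256 (fun n => Nat.beq (ap idl n) n) = true := by decide +kernel
  intro n hn
  exact Nat.eq_of_beq_eq_true (allLt_iff.1 h n hn)

/-- every octonion is coded -/
theorem exists_vec (v : V8 (ZMod 2)) : ∃ n < 256, v = vec n := by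
  have h : ∀ a b c d e f g h : ZMod 2, ∃ n < 256, bitF n 0 = a ∧ bitF n 1 = b ∧ bitF n 2 = c ∧ bitF n 3 = d ∧
      bitF n 4 = e ∧ bitF n 5 = f ∧ bitF n 6 = g ∧ bitF n 7 = h := by
    intro a b c d e f g h
    refine ⟨a.val + 2 * b.val + 4 * c.val + 8 * d.val + 16 * e.val + 32 * f.val + 64 * g.val + 128 * h.val, ?_⟩
    revert a b c d e f g h
    decide +kernel
  obtain ⟨n, hn, h0, h1, h2, h3, h4, h5, h6, h7⟩ := h (v (.inl 0)) (v (.inl 1)) (v (.inl 2)) (v (.inl 3)) (v (.inr 0))
    (v (.inr 1)) (v (.inr 2)) (v (.inr 3))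
  refine ⟨n, hn, ?_⟩
  apply ext8
  · exact h0.symm
  · exact h1.symm
  · exact h2.symm
  · exact h3.symm
  · exact h4.symm
  · exact h5.symm
  · exact h6.symm
  · exact h7.symm

/-- additive maps -/
def Add (L : V8 (ZMod 2) → V8 (ZMod 2)) : Prop := ∀ u v, L (u + v) = L u + L v

theorem Add.zero {L : V8 (ZMod 2) → V8 (ZMod 2)} (h : Add L) : L 0 = 0 := by
  have h1 := h 0 0
  rw [add_zero] at h1
  exact left_eq_add.1 h1

/-- the additive map `L` has the columns `m` -/
structure Cd (L : V8 (ZMod 2) → V8 (ZMod 2)) (m : List ℕ) : Prop where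
  add : Add L
  col : ∀ i < 8, L (vec (2 ^ i)) = vec (m.getD i 0)

theorem Cd.sel {L : V8 (ZMod 2) → V8 (ZMod 2)} {m : List ℕ} (h : Cd L m) {i : ℕ} (hi : i < 8) (b : Bool) :
    L (vec (sel b (idl.getD i 0))) = vec (Rad3.sel b (m.getD i 0)) := by
  cases b
  · change L (vec 0) = vec 0
    rw [vec_zero, h.add.zero]
  · change L (vec (idl.getD i 0)) = vec (m.getD i 0)
    have : idl.getD i 0 = 2 ^ i := by
      revert i
      decide
    rw [this, h.col i hi]

theorem Cd.apply {L : V8 (ZMod 2) → V8 (ZMod 2)} {m : List ℕ} (h : Cd L m) {n : ℕ} (hn : n < 256) :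
    L (vec n) = vec (ap m n) := by
  have h1 := ap_idl n hn
  conv_lhs => rw [← h1]
  unfold ap
  simp only [vec_xor, h.add _ _]
  rw [h.sel (by norm_num), h.sel (by norm_num), h.sel (by norm_num), h.sel (by norm_num), h.sel (by norm_num),
    h.sel (by norm_num), h.sel (by norm_num), h.sel (by norm_num)]

theorem Cd.unique {L L' : V8 (ZMod 2) → V8 (ZMod 2)} {m : List ℕ} (h : Cd L m) (h' : Cd L' m) (v : V8 (ZMod 2)) :
    L v = L' v := by
  obtain ⟨n, hn, rfl⟩ := exists_vec v
  rw [h.apply hn, h'.apply hn]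

/-- all columns are codes -/
def wf (m : List ℕ) : Bool := allLt 8 fun i => Nat.blt (m.getD i 0) 256

theorem wf_lt {m : List ℕ} (h : wf m = true) {i : ℕ} (hi : i < 8) : m.getD i 0 < 256 := by
  have h1 := allLt_iff.1 h i hi
  rwa [Nat.blt_eq] at h1

/-- the columns of the product -/
def cmul (m m' : List ℕ) : List ℕ :=
  [ap m (m'.getD 0 0), ap m (m'.getD 1 0), ap m (m'.getD 2 0), ap m (m'.getD 3 0), ap m (m'.getD 4 0),
    ap m (m'.getD 5 0), ap m (m'.getD 6 0), ap m (m'.getD 7 0)]

theorem getD_cmul (m m' : List ℕ) {i : ℕ} (hi : i < 8) : (cmul m m').getD i 0 = ap m (m'.getD i 0) := by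
  unfold cmul
  interval_cases i <;> rfl

theorem Cd.mul {L L' : V8 (ZMod 2) → V8 (ZMod 2)} {m m' : List ℕ} (h : Cd L m) (h' : Cd L' m') (hw : wf m' = true) :
    Cd (fun v => L (L' v)) (cmul m m') where
  add u v := by
    change L (L' (u + v)) = _
    rw [h'.add, h.add]
  col i hi := by
    rw [h'.col i hi, h.apply (wf_lt hw hi), getD_cmul _ _ hi]

theorem Cd.id : Cd (fun v => v) idl where
  add _ _ := rfl
  col i hi := by
    have : idl.getD i 0 = 2 ^ i := by
      revert i
      decide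
    rw [this]

/-- additive maps agreeing on the basis -/
theorem ext_add {L L' : V8 (ZMod 2) → V8 (ZMod 2)} (h : Add L) (h' : Add L')
    (hb : ∀ i < 8, L (vec (2 ^ i)) = L' (vec (2 ^ i))) (v : V8 (ZMod 2)) : L v = L' v := by
  choose f hf1 hf2 using fun i : ℕ => exists_vec (L' (vec (2 ^ i)))
  have hg : ∀ i < 8, [f 0, f 1, f 2, f 3, f 4, f 5, f 6, f 7].getD i 0 = f i := by
    intro i hi
    interval_cases i <;> rfl
  refine Cd.unique (m := [f 0, f 1, f 2, f 3, f 4, f 5, f 6, f 7]) ⟨h, fun i hi => ?_⟩ ⟨h', fun i hi => ?_⟩ v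
  · rw [hg i hi, hb i hi, hf2]
  · rw [hg i hi, hf2]

/-! ### The product -/

/-- the columns of the multiplications by the basis vectors -/
def tab : List (List ℕ) :=
  [[1, 2, 4, 8, 0, 0, 0, 0], [0, 0, 128, 64, 2, 1, 0, 0], [0, 128, 0, 32, 4, 0, 1, 0], [0, 64, 32, 0, 8, 0, 0, 1],
    [0, 0, 0, 0, 16, 32, 64, 128], [32, 16, 0, 0, 0, 0, 8, 4], [64, 0, 16, 0, 0, 8, 0, 2],
    [128, 0, 0, 16, 0, 4, 2, 0]]

theorem tab_spec : ∀ i < 8, ∀ j < 8, omul (vec (2 ^ i)) (vec (2 ^ j)) = vec ((tab.getD i []).getD j 0) := by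
  decide +kernel

/-- the product of codes -/
def omc (a b : ℕ) : ℕ :=
  ap [ap (tab.getD 0 []) b, ap (tab.getD 1 []) b, ap (tab.getD 2 []) b, ap (tab.getD 3 []) b, ap (tab.getD 4 []) b,
    ap (tab.getD 5 []) b, ap (tab.getD 6 []) b, ap (tab.getD 7 []) b] a

theorem cd_basis {i : ℕ} (hi : i < 8) : Cd (fun v => omul (vec (2 ^ i)) v) (tab.getD i []) where
  add u v := omul_add _ u v
  col j hj := tab_spec i hi j hj

theorem omul_vec {a b : ℕ} (ha : a < 256) (hb : b < 256) : omul (vec a) (vec b) = vec (omc a b) := by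
  have h1 : Cd (fun v => omul v (vec b)) [ap (tab.getD 0 []) b, ap (tab.getD 1 []) b, ap (tab.getD 2 []) b,
      ap (tab.getD 3 []) b, ap (tab.getD 4 []) b, ap (tab.getD 5 []) b, ap (tab.getD 6 []) b, ap (tab.getD 7 []) b] := by
    refine ⟨fun u v => add_omul u v _, fun i hi => ?_⟩
    rw [(cd_basis hi).apply hb]
    interval_cases i <;> rfl
  exact h1.apply ha

/-- the columns of the left multiplication -/
def lc (a : ℕ) : List ℕ := [omc a 1, omc a 2, omc a 4, omc a 8, omc a 16, omc a 32, omc a 64, omc a 128]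

/-- the columns of the right multiplication -/
def rc (a : ℕ) : List ℕ := [omc 1 a, omc 2 a, omc 4 a, omc 8 a, omc 16 a, omc 32 a, omc 64 a, omc 128 a]

theorem cd_left {a : ℕ} (ha : a < 256) : Cd (fun v => omul (vec a) v) (lc a) := by
  refine ⟨fun u v => omul_add _ u v, fun i hi => ?_⟩
  have h2 : 2 ^ i < 256 := by
    interval_cases i <;> norm_num
  rw [omul_vec ha h2]
  interval_cases i <;> rfl

theorem cd_right {a : ℕ} (ha : a < 256) : Cd (fun v => omul v (vec a)) (rc a) := by
  refine ⟨fun u v => add_omul u v _, fun i hi => ?_⟩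
  have h2 : 2 ^ i < 256 := by
    interval_cases i <;> norm_num
  rw [omul_vec h2 ha]
  interval_cases i <;> rfl

/-- **multiplicative maps** -/
theorem mult_of_check {L : V8 (ZMod 2) → V8 (ZMod 2)} {m : List ℕ} (h : Cd L m)
    (hc : ∀ i < 8, ∀ j < 8, ap m ((tab.getD i []).getD j 0) = omc (m.getD i 0) (m.getD j 0))
    (hw : wf m = true) (x y : V8 (ZMod 2)) : L (omul x y) = omul (L x) (L y) := by
  have hlt : ∀ i < 8, ∀ j < 8, (tab.getD i []).getD j 0 < 256 := by decide
  have h1 : ∀ i < 8, ∀ y, L (omul (vec (2 ^ i)) y) = omul (L (vec (2 ^ i))) (L y) := by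
    intro i hi
    refine ext_add (L := fun y => L (omul (vec (2 ^ i)) y)) (L' := fun y => omul (L (vec (2 ^ i))) (L y))
      (fun u v => ?_) (fun u v => ?_) (fun j hj => ?_)
    · change L (omul _ (u + v)) = _
      rw [omul_add, h.add]
    · change omul _ (L (u + v)) = _
      rw [h.add, omul_add]
    · change L (omul (vec (2 ^ i)) (vec (2 ^ j))) = omul (L (vec (2 ^ i))) (L (vec (2 ^ j)))
      rw [tab_spec i hi j hj, h.apply (hlt i hi j hj), h.col i hi, h.col j hj,
        omul_vec (wf_lt hw hi) (wf_lt hw hj), hc i hi j hj]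
  exact ext_add (L := fun x => L (omul x y)) (L' := fun x => omul (L x) (L y))
    (fun u v => by change L (omul (u + v) _) = _; rw [add_omul, h.add])
    (fun u v => by change omul (L (u + v)) _ = _; rw [h.add, add_omul])
    (fun i hi => h1 i hi y) x

end Cfsg.Agent.H872.Rad3
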