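import Cfsg.Agent.H872.Rad3.Minus
import Cfsg.Agent.H872.Rad3.OctCode
import Cfsg.Agent.H198.TriCls
import Cfsg.Agent.H161.TriLin
import Cfsg.Agent.StdO8.Model

/-!
# Radical automorphisms of order three of `Ω₈⁺(2)` (helper872, task 1208 of helper959)

* `irow_P8`, `irow_o8p2` : inner automorphisms and triality.
-/

set_option autoImplicit false
set_option linter.unusedSectionVars false

namespace Cfsg.Agent.H872.Rad3

open QuadraticMap Module Subgroup
open Cfsg.Agent.LieClassical.OrthCore Cfsg.Agent.LieClassical.OrthTrans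
  Cfsg.Agent.LieClassical.OrthSimple Cfsg.Agent.LieClassical.OrthFinite
open Cfsg.Agent.LieClassical.QuadForms
open Cfsg.Agent.ClassicalGeometry.OrthAut1 Cfsg.Agent.ClassicalGeometry.OrthSemi Cfsg.Agent.H198.Classes
open Cfsg.Agent.ClassicalGeometry.TrialityOct Cfsg.Agent.ClassicalGeometry.Triality
open Cfsg.Agent.H198.TriBase Cfsg.Agent.H198.TriAut Cfsg.Agent.H198.TriDia
open Cfsg.Agent.H459.Rad Cfsg.Agent.H459.Iface Cfsg.Agent.H959.Rad3

/-! ### `RC` and conjugation -/

section RC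

variable {K : Type*} [Group K] [Finite K]

/-- the radical automorphisms are closed under conjugation -/
theorem rc_conj_aut {x : MulAut K} (h : RC x) (a : MulAut K) : RC (a * x * a⁻¹) := h.tr a

/-- and under inversion -/
theorem rc_inv {x : MulAut K} (h : RC x) : RC x⁻¹ := by
  intro M hM hx m hm
  have hmap : M.map (x⁻¹).toMonoidHom = M := by
    have hle : M.map (x⁻¹).toMonoidHom ≤ M := by
      rintro _ ⟨m, hm, rfl⟩
      exact hx m hm
    refine Subgroup.eq_of_le_of_card_ge hle ?_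
    exact (Nat.card_congr (M.equivMapOfInjective _ (x⁻¹).injective).toEquiv).le
  have hx' : ∀ m ∈ M, x m ∈ M := by
    intro m hm
    rw [← hmap] at hm
    obtain ⟨m', hm', rfl⟩ := hm
    change x (x⁻¹ m') ∈ M
    rwa [MulAut.apply_inv_self]
  have h1 := h M hM hx' (x⁻¹ m) (hx m hm)
  rw [MulAut.apply_inv_self] at h1
  have h2 := inv_mem h1
  rwa [mul_inv_rev, inv_inv] at h2

/-- the fixed points -/
def Fix (x : MulAut K) : Subgroup K where
  carrier := {k | x k = k}
  mul_mem' := fun {a b} ha hb => by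
    change x (a * b) = a * b
    rw [map_mul]
    exact congrArg₂ _ ha hb
  one_mem' := map_one x
  inv_mem' := fun {a} ha => by
    change x a⁻¹ = a⁻¹
    rw [map_inv]
    exact congrArg _ ha

theorem mem_Fix {x : MulAut K} {k : K} : k ∈ Fix x ↔ x k = k := Iff.rfl

/-- **`conj t * r` is radical, `t` fixed by `r`** : `t` lies in the radical of the fixed points of `r` -/
theorem mem_rad_Fix {r : MulAut K} (hr : r ≠ 1) {t : K} (ht : t ∈ Fix r) (h : RC (MulAut.conj t * r)) :
    t ∈ radIn (Fix r) := by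
  have hM : Fix r ≠ ⊤ := by
    intro htop
    apply hr
    ext k
    exact (htop ▸ mem_top k : k ∈ Fix r)
  have hx : ∀ m ∈ Fix r, (MulAut.conj t * r) m = t * m * t⁻¹ := by
    intro m hm
    change MulAut.conj t (r m) = _
    rw [mem_Fix.1 hm, MulAut.conj_apply]
  have hmem : ∀ m ∈ Fix r, t * m * t⁻¹ ∈ Fix r := fun m hm => mul_mem (mul_mem ht hm) (inv_mem ht)
  have h1 : (⟨t, ht⟩ : Fix r) ∈ Cfsg.solvableRadical (Fix r) := by
    refine mem_rad_of_commutator fun g => ?_
    have h2 := h (Fix r) hM (fun m hm => by rw [hx m hm]; exact hmem m hm) g g.2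
    rw [hx g g.2] at h2
    exact mem_radIn_coe.1 h2
  exact mem_radIn_coe.2 h1

end RC

/-! ### Triality over the field with two elements -/

section Tri

variable {F : Type} [Field F]

theorem gen_conj {G : Type} [Group G] {b r c m : G} (h : r * b⁻¹ * r⁻¹ = c) (hm : m = b * c) :
    b * r * b⁻¹ = m * r := by
  rw [hm, ← h]
  group

theorem kap_lG {b : V8 F} (h : plusForm 4 F b = 1) (hne : plusForm 4 F b ≠ 0) :
    kapG F * (lG b hne)⁻¹ * kapG F = rG b hne := by
  have h3 : rG b hne * (kapG F * lG b hne * kapG F) = 1 := by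
    apply Subtype.ext
    ext1 x
    change omul (oconj (omul b (oconj x))) b = x
    rw [oconj_omul, oconj_oconj, omul_oconj_omul', h, one_smul]
  have h5 := eq_inv_of_mul_eq_one_left h3
  rw [h5, mul_inv_rev, mul_inv_rev, kapG_inv, mul_assoc]

/-- `ρ ~ Ψ(t_b) ρ`, `t_b x = (b (x b)) b` -/
theorem rho_conj_tO (hG : Good (plusForm 4 F)) {b : V8 F} (h : plusForm 4 F b = 1) (hne : plusForm 4 F b ≠ 0) :
    Psi _ (bG b hne) * rho hG * (Psi _ (bG b hne))⁻¹ = Psi _ (bG b hne * rG b hne) * rho hG := by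
  have h1 := rho_conj hG (tri_bG b hne).inv
  rw [kap_lG h hne, map_inv (Psi (plusForm 4 F))] at h1
  exact gen_conj h1 (map_mul (Psi (plusForm 4 F)) _ _)

variable [Fintype F]

theorem finite_P8 : Finite (P8 F) := by
  have := finite_E (Q := plusForm 4 F)
  infer_instance

/-- an octonion automorphism of order three is an inner automorphism fixed by `ρ` -/
theorem exists_elt (hF : Fintype.card F = 2) {τ : G8 F} (hτ : TriS τ τ τ) (h3 : τ ^ 3 = 1) :
    ∃ t : P8 F, MulAut.conj t = Psi _ τ ∧ t ∈ Fix (rho (CpAutOEight.good8 (F := F))) := by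
  have h3' : (Psi (plusForm 4 F) τ) ^ 3 = 1 := by
    have h2 := congrArg (Psi (plusForm 4 F)) h3
    rwa [map_pow (Psi (plusForm 4 F)) τ 3, map_one (Psi (plusForm 4 F))] at h2
  obtain ⟨t, ht⟩ := CpAutOEight.inner_of_pt hF h3'
    (AutOrth.Final.pt_of_mem_range (CpAutOEight.good8 (F := F)) ⟨τ, rfl⟩)
  refine ⟨t, ht.symm, ?_⟩
  have hinj : Function.Injective (MulAut.conj : P8 F →* MulAut (P8 F)) :=
    H839.Rad.conj_injective (CpAutOEight.center_K8 hF)
  apply hinj
  have h4 : ∀ {K : Type} [Group K] (r : MulAut K) (t : K), MulAut.conj (r t) = r * MulAut.conj t * r⁻¹ := by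
    intro K _ r t
    ext k
    change r t * k * (r t)⁻¹ = r (t * (r⁻¹ k) * t⁻¹)
    rw [map_mul, map_mul, map_inv, MulAut.apply_inv_self]
  have h5 : ∀ {G : Type} [Group G] {r a : G}, r * a = a * r → r * a * r⁻¹ = a := by
    intro G _ r a h
    rw [h, mul_inv_cancel_right]
  rw [h4, ← ht]
  exact h5 (rho_comm _ hτ)

variable (F) in
/-- the automorphisms induced by the radical of the fixed points of `ρ` -/
noncomputable def RR : Subgroup (MulAut (P8 F)) :=
  (radIn (Fix (rho (CpAutOEight.good8 (F := F))))).map MulAut.conj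

variable (F) in
theorem RR_solvable : Group.IsSolvable (RR F) := by
  have := finite_P8 (F := F)
  exact SignalizersComponents.ComponentExists.isSolvable_map (radIn_solvable _) _

/-- the radical is normalised by the octonion automorphisms of order three -/
theorem RR_conj (hF : Fintype.card F = 2) {τ : G8 F} (hτ : TriS τ τ τ) (h3 : τ ^ 3 = 1) {y : MulAut (P8 F)}
    (hy : y ∈ RR F) : Psi _ τ * y * (Psi _ τ)⁻¹ ∈ RR F := by
  have := finite_P8 (F := F)
  obtain ⟨t, ht, htf⟩ := exists_elt hF hτ h3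
  obtain ⟨r, hr, rfl⟩ := hy
  refine ⟨t * r * t⁻¹, radIn_conj_mem htf hr, ?_⟩
  rw [← ht]
  exact (map_mul _ _ _).trans (congrArg₂ _ (map_mul _ _ _) (map_inv _ _))

theorem Psi_conj_mem (hF : Fintype.card F = 2) {τ a : G8 F} (hτ : TriS τ τ τ) (h3 : τ ^ 3 = 1)
    (ha : Psi _ a ∈ RR F) : Psi _ (τ * a * τ⁻¹) ∈ RR F := by
  have hm : Psi (plusForm 4 F) (τ * a * τ⁻¹) = Psi _ τ * Psi _ a * (Psi _ τ)⁻¹ := by
    rw [map_mul (Psi (plusForm 4 F)), map_mul (Psi (plusForm 4 F)), map_inv (Psi (plusForm 4 F))]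
  rw [hm]
  exact RR_conj hF hτ h3 ha

theorem Psi_mul_mem {a b : G8 F} (ha : Psi _ a ∈ RR F) (hb : Psi _ b ∈ RR F) : Psi _ (a * b) ∈ RR F := by
  have hm : Psi (plusForm 4 F) (a * b) = Psi _ a * Psi _ b := map_mul (Psi (plusForm 4 F)) a b
  rw [hm]
  exact mul_mem ha hb

/-- **radical automorphisms `Ψ(τ) ρ`** -/
theorem mem_RR (hF : Fintype.card F = 2) {τ : G8 F} (hτ : TriS τ τ τ) (h3 : τ ^ 3 = 1)
    (h : RC (Psi _ τ * rho (CpAutOEight.good8 (F := F)))) : Psi _ τ ∈ RR F := by
  have := finite_P8 (F := F)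
  obtain ⟨t, ht, htf⟩ := exists_elt hF hτ h3
  rw [← ht] at h ⊢
  refine ⟨t, mem_rad_Fix ?_ htf h, rfl⟩
  intro h1
  exact rho_not_mem (CpAutOEight.good8 (F := F)) (h1 ▸ one_mem _)

/-- the contradiction from elements of the radical -/
theorem false_of_words (hF : Fintype.card F = 2) {a b : G8 F} (ha : Psi _ a ∈ RR F) (hb : Psi _ b ∈ RR F)
    (ha3 : a ^ 3 = 1) (hb2 : b ^ 2 = 1) (hab : (a * b) ^ 7 = 1) (hne : a * b ≠ 1) : False := by
  have hs : Group.IsSolvable ↥(closure ({Psi _ a, Psi _ b} : Set (MulAut (P8 F)))) := by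
    refine SignalizersComponents.ComponentExists.isSolvable_of_le ?_ (RR_solvable F)
    rw [closure_le]
    rintro z (rfl | rfl)
    · exact ha
    · exact hb
  have hp : ∀ {x : G8 F} {n : ℕ}, x ^ n = 1 → (Psi (plusForm 4 F) x) ^ n = 1 := by
    intro x n h
    have h2 := congrArg (Psi (plusForm 4 F)) h
    rwa [map_pow (Psi (plusForm 4 F)) x n, map_one (Psi (plusForm 4 F))] at h2
  have hm : Psi (plusForm 4 F) (a * b) = Psi _ a * Psi _ b := map_mul (Psi (plusForm 4 F)) a b
  refine not_solvable_of_coprime (k := 1) (n := 7) (hp ha3) (hp hb2) ?_ (by norm_num) ?_ hs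
  · have h := hp hab
    rwa [hm] at h
  · intro h
    apply hne
    rw [← hm] at h
    have h1 : a * b ∈ (Psi (plusForm 4 F)).ker := h
    rw [ker_Psi (CpAutOEight.good8 (F := F))] at h1
    obtain ⟨c, hc⟩ := h1
    have hc1 : c = 1 := Units.ext (CpAutOEight.card_units hF c.ne_zero)
    rw [← hc, hc1, map_one]

end Tri

end Cfsg.Agent.H872.Rad3
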