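import Cfsg.Agent.H959.Rad3.Iface
import Cfsg.Agent.H839.Rad.Base
import Cfsg.Agent.GenOrth.Emb
import Cfsg.Agent.CpAutOEight.Auto
import Cfsg.Agent.H198.Classes
import Cfsg.Agent.GenOrth.Main
import Cfsg.Agent.CpQuot.Congr

/-!
# Radical isometries of order three over the field with two elements (helper872, task 1208 of helper959)

`false_of_inner` : an automorphism of order three of `E Q` (dimension at least seven) induced by an isometry is not
radical (`RC`).
-/

set_option autoImplicit false
set_option linter.unusedSectionVars false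

namespace Cfsg.Agent.H872.Rad3

open QuadraticMap Module Subgroup
open Cfsg.Agent.LieClassical.OrthCore Cfsg.Agent.LieClassical.OrthTrans
  Cfsg.Agent.LieClassical.OrthSimple Cfsg.Agent.LieClassical.OrthFinite
open Cfsg.Agent.ClassicalGeometry.OrthAut1 Cfsg.Agent.ClassicalGeometry.OrthSemi Cfsg.Agent.H198.Classes
open Cfsg.Agent.GenOrth Cfsg.Agent.H459.Rad

variable {F V : Type*} [Field F] [Fintype F] [AddCommGroup V] [Module F V] {Q : QuadraticForm F V}

theorem two_eq_zero (hF : Fintype.card F = 2) : (2 : F) = 0 := by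
  have h := FiniteField.cast_card_eq_zero F
  rw [hF] at h
  exact_mod_cast h

theorem zero_or_one (hF : Fintype.card F = 2) (a : F) : a = 0 ∨ a = 1 := by
  by_cases h : a = 0
  · exact Or.inl h
  · exact Or.inr (CpAutOEight.card_units hF h)

theorem add_self (hF : Fintype.card F = 2) (v : V) : v + v = 0 := by
  have h : (2 : F) • v = v + v := two_smul F v
  rw [← h, two_eq_zero hF, zero_smul]

theorem sadd_self (hF : Fintype.card F = 2) (a : F) : a + a = 0 := by
  rw [← two_mul, two_eq_zero hF, zero_mul]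

theorem Q_add (u v : V) : Q (u + v) = Q u + Q v + polar Q u v := by
  unfold polar
  ring

theorem polar_self_zero (hF : Fintype.card F = 2) (u : V) : polar Q u u = 0 := by
  rw [polar_self, two_smul, sadd_self hF]

/-- the orthogonal complement of two vectors -/
def Wp (Q : QuadraticForm F V) (v w : V) : Submodule F V where
  carrier := {x | polar Q v x = 0 ∧ polar Q w x = 0}
  zero_mem' := ⟨polar_zero_right Q v, polar_zero_right Q w⟩
  add_mem' := by
    rintro x y ⟨h1, h2⟩ ⟨h3, h4⟩
    exact ⟨by rw [polar_add_right, h1, h3, add_zero], by rw [polar_add_right, h2, h4, add_zero]⟩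
  smul_mem' := by
    rintro c x ⟨h1, h2⟩
    exact ⟨by rw [polar_smul_right, h1, smul_zero], by rw [polar_smul_right, h2, smul_zero]⟩

theorem mem_Wp {v w x : V} : x ∈ Wp Q v w ↔ polar Q v x = 0 ∧ polar Q w x = 0 := Iff.rfl

/-- the projection on the complement -/
theorem proj_mem (hF : Fintype.card F = 2) {v w : V} (h : polar Q v w = 1) (x : V) :
    x + (polar Q w x • v + polar Q v x • w) ∈ Wp Q v w := by
  refine ⟨?_, ?_⟩
  · rw [polar_add_right, polar_add_right, polar_smul_right, polar_smul_right, polar_self_zero hF, h, smul_zero, zero_add,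
      smul_eq_mul, mul_one, sadd_self hF]
  · rw [polar_add_right, polar_add_right, polar_smul_right, polar_smul_right, polar_self_zero hF, polar_comm Q w v, h,
      smul_zero, add_zero, smul_eq_mul, mul_one, sadd_self hF]

/-- the embedding of the complement of a nondegenerate plane -/
def emb (hF : Fintype.card F = 2) (hQ : Nondeg Q) {v w : V} (h : polar Q v w = 1) :
    Emb Q (Q.comp (Wp Q v w).subtype) where
  j := (Wp Q v w).subtype
  π :=
    { toFun := fun x => ⟨x + (polar Q w x • v + polar Q v x • w), proj_mem hF h x⟩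
      map_add' := fun x y => by
        apply Subtype.ext
        change x + y + (polar Q w (x + y) • v + polar Q v (x + y) • w) =
          (x + (polar Q w x • v + polar Q v x • w)) + (y + (polar Q w y • v + polar Q v y • w))
        rw [polar_add_right, polar_add_right]
        module
      map_smul' := fun c x => by
        apply Subtype.ext
        change c • x + (polar Q w (c • x) • v + polar Q v (c • x) • w) =
          c • (x + (polar Q w x • v + polar Q v x • w))
        rw [polar_smul_right, polar_smul_right]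
        simp only [smul_eq_mul]
        module }
  c := 1
  hc := one_ne_zero
  hQ := fun x => by rw [one_mul]; rfl
  adj := fun x u => by
    have h1 : polar (⇑(Q.comp (Wp Q v w).subtype)) x
        ⟨u + (polar Q w u • v + polar Q v u • w), proj_mem hF h u⟩ =
        polar Q (x : V) (u + (polar Q w u • v + polar Q v u • w)) := rfl
    rw [one_mul]
    change _ = polar (⇑(Q.comp (Wp Q v w).subtype)) x
        ⟨u + (polar Q w u • v + polar Q v u • w), proj_mem hF h u⟩
    rw [h1, polar_add_right, polar_add_right, polar_smul_right, polar_smul_right, polar_comm Q (x : V) v,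
      polar_comm Q (x : V) w, x.2.1, x.2.2, smul_zero, smul_zero, add_zero, add_zero]
    rfl
  nd := fun x hx => by
    apply Subtype.ext
    apply hQ
    intro y
    have h1 := hx ⟨y + (polar Q w y • v + polar Q v y • w), proj_mem hF h y⟩
    have h2 : polar Q (x : V) (y + (polar Q w y • v + polar Q v y • w)) = 0 := h1
    rwa [polar_add_right, polar_add_right, polar_smul_right, polar_smul_right, polar_comm Q (x : V) v,
      polar_comm Q (x : V) w, x.2.1, x.2.2, smul_zero, smul_zero, add_zero, add_zero] at h2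

theorem finrank_Wp [FiniteDimensional F V] {v w : V} : finrank F V ≤ finrank F (Wp Q v w) + 2 := by
  let f : V →ₗ[F] F × F := (polarBilin Q v).prod (polarBilin Q w)
  have h1 : LinearMap.ker f = Wp Q v w := by
    ext x
    rw [LinearMap.mem_ker]
    constructor
    · intro h
      exact ⟨congrArg Prod.fst h, congrArg Prod.snd h⟩
    · rintro ⟨h2, h3⟩
      exact Prod.ext h2 h3
  have h2 := LinearMap.finrank_range_add_finrank_ker f
  rw [h1] at h2
  have h3 : finrank F (LinearMap.range f) ≤ finrank F (F × F) := Submodule.finrank_le _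
  rw [finrank_prod, finrank_self] at h3
  omega

/-- three vectors of an anisotropic or hyperbolic plane: two of them have the same norm -/
theorem exists_pair (hF : Fintype.card F = 2) {v w : V} (h : polar Q v w = 1) :
    ∃ a b : V, a ≠ 0 ∧ b ≠ 0 ∧ a ≠ b ∧ Q a = Q b ∧ (∀ x ∈ Wp Q v w, polar Q a x = 0) ∧
      ∃ c d : F, a = c • v + d • w := by
  have hv : v ≠ 0 := by
    rintro rfl
    rw [polar_zero_left] at h
    exact zero_ne_one h
  have hw : w ≠ 0 := by
    rintro rfl
    rw [polar_zero_right] at h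
    exact zero_ne_one h
  have hvw : v ≠ w := by
    rintro rfl
    rw [polar_self_zero hF] at h
    exact zero_ne_one h
  have hs : v + w ≠ 0 := by
    intro h1
    apply hvw
    have h2 : v + w + w = w := by rw [h1, zero_add]
    rwa [add_assoc, add_self hF, add_zero] at h2
  by_cases hq : Q v = Q w
  · exact ⟨v, w, hv, hw, hvw, hq, fun x hx => hx.1, 1, 0, by simp⟩
  · have h1 : Q (v + w) = 0 := by
      rw [Q_add, h]
      rcases zero_or_one hF (Q v) with h2 | h2 <;> rcases zero_or_one hF (Q w) with h3 | h3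
      · exact absurd (h2.trans h3.symm) hq
      · rw [h2, h3, zero_add, sadd_self hF]
      · rw [h2, h3, add_zero, sadd_self hF]
      · exact absurd (h2.trans h3.symm) hq
    rcases zero_or_one hF (Q v) with h2 | h2
    · refine ⟨v, v + w, hv, hs, ?_, by rw [h1, h2], fun x hx => hx.1, 1, 0, by simp⟩
      intro h3
      exact hw (left_eq_add.1 h3)
    · have h3 : Q w = 0 := by
        rcases zero_or_one hF (Q w) with h3 | h3
        · exact h3
        · exact absurd (h2.trans h3.symm) hq
      refine ⟨w, v + w, hw, hs, ?_, by rw [h1, h3], fun x hx => hx.2, 0, 1, by simp⟩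
      intro h4
      exact hv (right_eq_add.1 h4)

/-! ### The core -/

section Core

variable [FiniteDimensional F V]

omit [Fintype F] in
theorem finite_E [Finite F] : Finite (E Q) := by
  have : Finite V := Module.finite_of_finite F
  have : Finite (V ≃ₗ[F] V) := Finite.of_injective (fun f : V ≃ₗ[F] V => (f : V → V)) DFunLike.coe_injective
  infer_instance

/-- an invariant plane, and a vector of its complement which is moved -/
theorem false_of_plane (hF : Fintype.card F = 2) (hG : Good Q) (h7 : 7 ≤ finrank F V)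
    {g : V ≃ₗ[F] V} (hg : g ∈ O Q) (h3 : ∀ v, g (g (g v)) = v) {x : MulAut (E Q)}
    (hx : ∀ h : E Q, ((x h : E Q) : V ≃ₗ[F] V) = g * h * g⁻¹)
    (hR : RC x) {v w : V} (h : polar Q v w = 1) (hv : ∃ a b : F, g v = a • v + b • w)
    (hw : ∃ a b : F, g w = a • v + b • w) {u : V} (hu : u ∈ Wp Q v w) (hgu : g u ≠ u) : False := by
  have := finite_E (Q := Q)
  set e := emb hF hG.nondeg h with he
  have hej : ∀ z : Wp Q v w, e.j z = (z : V) := fun z => rfl
  have hjpi : ∀ y, e.j (e.π y) = y + (polar Q w y • v + polar Q v y • w) := fun y => rfl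
  -- the plane is invariant
  have hW : ∀ y, (∃ a b : F, y = a • v + b • w) → ∃ a b : F, g y = a • v + b • w := by
    rintro y ⟨a, b, rfl⟩
    obtain ⟨a1, b1, h1⟩ := hv
    obtain ⟨a2, b2, h2⟩ := hw
    refine ⟨a * a1 + b * a2, a * b1 + b * b2, ?_⟩
    rw [map_add, map_smul, map_smul, h1, h2]
    module
  have hWp : ∀ y z, (∃ a b : F, y = a • v + b • w) → z ∈ Wp Q v w → polar Q y z = 0 := by
    rintro y z ⟨a, b, rfl⟩ hz
    rw [polar_add_left, polar_smul_left, polar_smul_left, hz.1, hz.2, smul_zero, smul_zero, add_zero]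
  have hgz : ∀ z ∈ Wp Q v w, g z ∈ Wp Q v w := by
    intro z hz
    have hp : ∀ y, (∃ a b : F, y = a • v + b • w) → polar Q y (g z) = 0 := by
      intro y hy
      have h4 : polar Q (g (g (g y))) (g z) = polar Q (g (g y)) z := by
        unfold polar
        rw [← map_add, mem_O.1 hg, mem_O.1 hg (g (g y)), mem_O.1 hg z]
      rw [← h3 y, h4]
      exact hWp _ _ (hW _ (hW _ hy)) hz
    exact ⟨hp v ⟨1, 0, by simp⟩, hp w ⟨0, 1, by simp⟩⟩
  have hpi0 : ∀ y, (∃ a b : F, y = a • v + b • w) → e.π y = 0 := by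
    rintro y ⟨a, b, rfl⟩
    apply e.j_injective
    rw [hjpi, map_zero, polar_add_right, polar_add_right, polar_smul_right, polar_smul_right, polar_smul_right,
      polar_smul_right, polar_self_zero hF, polar_self_zero hF, h, polar_comm Q w v, h, smul_zero, smul_zero, zero_add,
      add_zero, smul_eq_mul, smul_eq_mul, mul_one, mul_one, add_self hF]
  have hpiz : ∀ z (hz : z ∈ Wp Q v w), e.j (e.π z) = z := by
    intro z hz
    have := e.π_j ⟨z, hz⟩
    rw [hej] at this
    rw [this, hej]
  have hcomm : ∀ y, g (e.j (e.π y)) = e.j (e.π (g y)) := by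
    intro y
    set z := e.j (e.π y) with hz
    have hzm : z ∈ Wp Q v w := by rw [hz, hej]; exact (e.π y).2
    have hy : y = z + (polar Q w y • v + polar Q v y • w) := by
      rw [hz, hjpi, add_assoc, add_self hF, add_zero]
    conv_rhs => rw [hy, map_add, map_add, map_add, hpi0 _ (hW _ ⟨_, _, rfl⟩), map_zero, add_zero, hpiz _ (hgz z hzm)]
  obtain ⟨g', hg'O, hj, hπ⟩ := e.exists_restrict hg hcomm
  have hfr : finrank F V ≤ finrank F (Wp Q v w) + 2 := finrank_Wp
  have hG' : Good (Q.comp (Wp Q v w).subtype) := good_of_finite e.nd (by omega)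
  have hM : e.extE.range ≠ ⊤ := by
    intro htop
    obtain ⟨a, b, ha, hb, hab, hqab, hp, c, d, hcd⟩ := exists_pair hF h
    obtain ⟨k, hk, hkab⟩ := hG.trans_norm ha hb hqab
    have h4 : (⟨k, hk⟩ : E Q) ∈ e.extE.range := by rw [htop]; exact mem_top _
    obtain ⟨k', hk'⟩ := h4
    have h5 : k = e.ext k'.1 := congrArg Subtype.val hk'.symm
    apply hab
    rw [← hkab, h5, e.ext_of_π_eq_zero _ (hpi0 a ⟨c, d, hcd⟩)]
  have hxm : ∀ k : E (Q.comp (Wp Q v w).subtype), x (e.extE k) = e.extE (conjE _ (gamO _ ⟨g', hg'O⟩) k) := by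
    intro k
    apply Subtype.ext
    rw [hx, e.extE_coe, e.extE_coe, Emb.conj_ext hj hπ]
    congr 1
  have hinv : ∀ m ∈ e.extE.range, x m ∈ e.extE.range := by
    rintro m ⟨k, rfl⟩
    exact ⟨_, (hxm k).symm⟩
  have hq : Cfsg.IsQuasisimple e.extE.range :=
    (CpQuot.Congr.isQuasisimple_iff (e.extE.ofInjective e.extE_injective)).1 (GenOrth.isQuasisimple_E hG')
  have hfix : ∀ k : E (Q.comp (Wp Q v w).subtype), conjE _ (gamO _ ⟨g', hg'O⟩) k = k := by
    intro k
    apply e.extE_injective
    rw [← hxm]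
    exact hR.eq_of_quasisimple hM hinv hq ⟨k, rfl⟩
  have hPsi : gamO _ ⟨g', hg'O⟩ ∈ (Psi (Q.comp (Wp Q v w).subtype)).ker := by
    rw [MonoidHom.mem_ker]
    ext p
    obtain ⟨k, rfl⟩ := QuotientGroup.mk_surjective p
    rw [Psi_mk, hfix]
    rfl
  rw [ker_Psi hG'] at hPsi
  obtain ⟨c, hc⟩ := hPsi
  have hc1 : (c : F) = 1 := CpAutOEight.card_units hF c.ne_zero
  apply hgu
  have h6 := hj ⟨u, hu⟩
  have h7 : g' ⟨u, hu⟩ = (scal (Q.comp (Wp Q v w).subtype) c).1 ⟨u, hu⟩ := by rw [hc]; rfl
  rw [h7, scal_apply, hc1, one_smul] at h6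
  exact h6

/-- **An inner (isometry) automorphism of order three is not radical.** -/
theorem false_of_inner (hF : Fintype.card F = 2) (hG : Good Q) (h7 : 7 ≤ finrank F V)
    {g : V ≃ₗ[F] V} (hg : g ∈ O Q) (h3 : ∀ v, g (g (g v)) = v) (h1 : g ≠ 1) {x : MulAut (E Q)}
    (hx : ∀ h : E Q, ((x h : E Q) : V ≃ₗ[F] V) = g * h * g⁻¹) (hR : RC x) : False := by
  have hpol : ∀ a b, polar Q (g a) (g b) = polar Q a b := by
    intro a b
    unfold polar
    rw [← map_add, mem_O.1 hg, mem_O.1 hg, mem_O.1 hg]
  -- a vector `u` with `u + g u + g (g u) = 0`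
  obtain ⟨u0, hu0⟩ : ∃ u, g u ≠ u := by
    by_contra hcon
    push Not at hcon
    exact h1 (LinearEquiv.ext hcon)
  set u := g u0 + u0 with hu
  have hune : u ≠ 0 := by
    intro h
    apply hu0
    have h4 : g u0 + u0 + u0 = u0 := by rw [← hu, h, zero_add]
    rwa [add_assoc, add_self hF, add_zero] at h4
  have hN : ∀ y, (∃ z, y = g z + z) → y + g y + g (g y) = 0 := by
    rintro y ⟨z, rfl⟩
    rw [map_add, map_add, h3]
    have e1 : g z + z + (g (g z) + g z) + (z + g (g z)) = (g z + g z) + (z + z) + (g (g z) + g (g z)) := by abel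
    rw [e1, add_self hF, add_self hF, add_self hF, zero_add, add_self hF]
  -- a vector `y1` of `[V, g]` with `polar u y1 = 1`
  obtain ⟨y0, hy0⟩ : ∃ y, polar Q u y ≠ 0 := by
    by_contra hcon
    push Not at hcon
    exact hune (hG.nondeg u hcon)
  have hy1 : polar Q u y0 = 1 := CpAutOEight.card_units hF hy0
  set y1 := g (g y0) + g y0 with hy1d
  have hu1 : polar Q u (g (g y0)) = polar Q (g u) y0 := by
    rw [← hpol u, h3]
  have hu2 : polar Q u (g y0) = polar Q (g (g u)) y0 := by
    rw [← hpol u, ← hpol (g u), h3]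
  have hpy : polar Q u y1 = 1 := by
    have h4 : polar Q (u + g u + g (g u)) y0 = 0 := by rw [hN u ⟨u0, rfl⟩, polar_zero_left]
    rw [polar_add_left, polar_add_left] at h4
    rw [hy1d, polar_add_right, hu1, hu2]
    have h5 : polar Q (g u) y0 + polar Q (g (g u)) y0 = -polar Q u y0 := by
      rw [eq_neg_iff_add_eq_zero, ← h4]
      ring
    rw [h5, hy1]
    have h6 := sadd_self hF (1 : F)
    linear_combination -h6
  -- a vector of norm one
  obtain ⟨v, ⟨z, hvz⟩, hv1⟩ : ∃ v, (∃ z, v = g z + z) ∧ Q v = 1 := by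
    rcases zero_or_one hF (Q u) with h4 | h4
    · rcases zero_or_one hF (Q y1) with h5 | h5
      · refine ⟨u + y1, ⟨u0 + g y0, ?_⟩, ?_⟩
        · rw [hu, hy1d, map_add]
          abel
        · rw [Q_add, h4, h5, hpy, add_zero, zero_add]
      · exact ⟨y1, ⟨g y0, rfl⟩, h5⟩
    · exact ⟨u, ⟨u0, rfl⟩, h4⟩
  have hNv := hN v ⟨z, hvz⟩
  set w := g v with hw
  have hgw : g w = v + w := by
    have h4 : v + w + (v + w) = 0 := add_self hF _
    have h5 : v + w + g w = v + w + (v + w) := by rw [hNv, h4]
    exact add_left_cancel h5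
  have hvw : polar Q v w = 1 := by
    have h4 : Q (v + w) = 1 := by rw [← hgw, mem_O.1 hg, hw, mem_O.1 hg, hv1]
    have h5 : Q w = 1 := by rw [hw, mem_O.1 hg, hv1]
    rw [Q_add, hv1, h5, sadd_self hF, zero_add] at h4
    exact h4
  have hgv : g v ≠ v := by
    intro h4
    rw [hw, h4, polar_self_zero hF] at hvw
    exact zero_ne_one hvw
  by_cases hcase : ∃ u' ∈ Wp Q v w, g u' ≠ u'
  · obtain ⟨u', hu', hgu'⟩ := hcase
    exact false_of_plane hF hG h7 hg h3 hx hR hvw ⟨0, 1, by simp [hw]⟩ ⟨1, 1, by rw [hgw]; simp⟩ hu' hgu'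
  · push Not at hcase
    have hfr : finrank F V ≤ finrank F (Wp Q v w) + 2 := finrank_Wp
    have hpos : 0 < finrank F (Wp Q v w) := by omega
    have := Module.finrank_pos_iff.1 hpos
    obtain ⟨v', hv'⟩ := exists_ne (0 : Wp Q v w)
    obtain ⟨w', hw'⟩ : ∃ w', polar (Q.comp (Wp Q v w).subtype) v' w' ≠ 0 := by
      by_contra hcon
      push Not at hcon
      exact hv' ((emb hF hG.nondeg hvw).nd v' hcon)
    have hw1 : polar Q (v' : V) w' = 1 := CpAutOEight.card_units hF hw'
    refine false_of_plane hF hG h7 hg h3 hx hR hw1 ⟨1, 0, by rw [hcase _ v'.2]; simp⟩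
      ⟨0, 1, by rw [hcase _ w'.2]; simp⟩ (u := v) ⟨?_, ?_⟩ hgv
    · rw [polar_comm]; exact v'.2.1
    · rw [polar_comm]; exact w'.2.1

end Core

end Cfsg.Agent.H872.Rad3
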