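import Cfsg.Agent.H872.Rad3.Plus

/-!
# Radical automorphisms of order three of `Ω₈⁺(2)`: the words and the row (helper872, task 1208 of helper959)

* `false_of_rho`, `false_of_tauB` : `ρ` and `Ψ(τ_B) ρ` are not radical;
* `irow_P8`, `irow_o8p2`.
-/

set_option autoImplicit false
set_option linter.unusedSectionVars false

namespace Cfsg.Agent.H872.Rad3

open QuadraticMap Module Subgroup
open Cfsg.Agent.LieClassical.OrthCore Cfsg.Agent.LieClassical.OrthTrans
  Cfsg.Agent.LieClassical.OrthSimple Cfsg.Agent.LieClassical.OrthFinite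
open Cfsg.Agent.LieClassical.QuadForms
open Cfsg.Agent.ClassicalGeometry.OrthAut1 Cfsg.Agent.ClassicalGeometry.OrthSemi Cfsg.Agent.H198.Classes
open Cfsg.Agent.ClassicalGeometry.TrialityOct Cfsg.Agent.ClassicalGeometry.Triality
open Cfsg.Agent.H198.TriBase Cfsg.Agent.H198.TriAut Cfsg.Agent.H198.TriDia
open Cfsg.Agent.H459.Rad Cfsg.Agent.H459.Iface Cfsg.Agent.H959.Rad3

local notation "F2" => ZMod 2

theorem hF2 : Fintype.card F2 = 2 := ZMod.card 2

/-- the element `M` has the columns `m` -/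
def CG (M : G8 F2) (m : List ℕ) : Prop := Cd M.1 m

theorem CG.eq {M N : G8 F2} {m : List ℕ} (h : CG M m) (h' : CG N m) : M = N := by
  apply Subtype.ext
  ext1 v
  exact Cd.unique h h' v

theorem CG.mul {M N : G8 F2} {m n : List ℕ} (h : CG M m) (h' : CG N n) (hw : wf n = true) : CG (M * N) (cmul m n) := by
  have h1 := Cd.mul (L := M.1) (L' := N.1) h h' hw
  exact h1

theorem CG.one : CG (1 : G8 F2) idl := Cd.id

theorem sel_lt {b : Bool} {x : ℕ} (hx : x < 2 ^ 8) : sel b x < 2 ^ 8 := by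
  cases b
  · exact Nat.pos_of_ne_zero (by norm_num)
  · exact hx

theorem ap_lt {m : List ℕ} (h : wf m = true) (n : ℕ) : ap m n < 2 ^ 8 := by
  have h1 : ∀ i < 8, m.getD i 0 < 2 ^ 8 := fun i hi => wf_lt h hi
  unfold ap
  exact Nat.xor_lt_two_pow (sel_lt (h1 _ (by norm_num))) <| Nat.xor_lt_two_pow (sel_lt (h1 _ (by norm_num))) <|
    Nat.xor_lt_two_pow (sel_lt (h1 _ (by norm_num))) <| Nat.xor_lt_two_pow (sel_lt (h1 _ (by norm_num))) <|
    Nat.xor_lt_two_pow (sel_lt (h1 _ (by norm_num))) <| Nat.xor_lt_two_pow (sel_lt (h1 _ (by norm_num))) <|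
    Nat.xor_lt_two_pow (sel_lt (h1 _ (by norm_num))) (sel_lt (h1 _ (by norm_num)))

theorem wf_cmul {m : List ℕ} (h : wf m = true) (n : List ℕ) : wf (cmul m n) = true := by
  unfold wf
  rw [allLt_iff]
  intro i hi
  rw [getD_cmul _ _ hi, Nat.blt_eq]
  exact ap_lt h _

/-- multiplicativity on the basis -/
def mulc (m : List ℕ) : Bool :=
  allLt 8 fun i => allLt 8 fun j => Nat.beq (ap m ((tab.getD i []).getD j 0)) (omc (m.getD i 0) (m.getD j 0))

theorem tri_of_mulc {M : G8 F2} {m : List ℕ} (h : CG M m) (hc : mulc m = true) (hw : wf m = true) : TriS M M M := by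
  refine fun x y => mult_of_check h (fun i hi j hj => ?_) hw x y
  exact Nat.eq_of_beq_eq_true (allLt_iff.1 (allLt_iff.1 hc i hi) j hj)

/-- the conjugation by the octonion with code `b` -/
def tO (b : ℕ) (h : plusForm 4 F2 (vec b) ≠ 0) : G8 F2 := bG (vec b) h * rG (vec b) h

/-- its columns -/
def tc (b : ℕ) : List ℕ := cmul (cmul (rc b) (lc b)) (rc b)

/-- a good octonion -/
structure GO (b : ℕ) : Prop where
  lt : b < 256
  norm : plusForm 4 F2 (vec b) = 1
  wl : wf (lc b) = true
  wr : wf (rc b) = true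
  wt : wf (tc b) = true
  mul : mulc (tc b) = true
  cub : cmul (tc b) (cmul (tc b) (tc b)) = idl

theorem GO.ne {b : ℕ} (h : GO b) : plusForm 4 F2 (vec b) ≠ 0 := by
  rw [h.norm]
  decide

/-- the element -/
def GO.t {b : ℕ} (h : GO b) : G8 F2 := tO b h.ne

theorem GO.cg {b : ℕ} (h : GO b) : CG h.t (tc b) :=
  CG.mul (CG.mul (M := rG (vec b) h.ne) (N := lG (vec b) h.ne) (cd_right h.lt) (cd_left h.lt) h.wl)
    (N := rG (vec b) h.ne) (cd_right h.lt) h.wr

theorem GO.tri {b : ℕ} (h : GO b) : TriS h.t h.t h.t := tri_of_mulc h.cg h.mul h.wt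

theorem GO.t3 {b : ℕ} (h : GO b) : h.t ^ 3 = 1 := by
  have h1 : CG (h.t * (h.t * h.t)) idl := by
    have h2 := h.cg.mul (h.cg.mul h.cg h.wt) (wf_cmul h.wt _)
    rwa [h.cub] at h2
  rw [pow_succ', pow_two]
  exact h1.eq CG.one

theorem norm_vec (n : ℕ) : plusForm 4 F2 (vec n) = bitF n 0 * bitF n 4 + bitF n 1 * bitF n 5 + bitF n 2 * bitF n 6 +
    bitF n 3 * bitF n 7 := norm8 _

theorem go35 : GO 35 := ⟨by norm_num, by rw [norm_vec]; decide, by decide +kernel, by decide +kernel, by decide +kernel,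
  by decide +kernel, by decide +kernel⟩

theorem go39 : GO 39 := ⟨by norm_num, by rw [norm_vec]; decide, by decide +kernel, by decide +kernel, by decide +kernel,
  by decide +kernel, by decide +kernel⟩

theorem go84 : GO 84 := ⟨by norm_num, by rw [norm_vec]; decide, by decide +kernel, by decide +kernel, by decide +kernel,
  by decide +kernel, by decide +kernel⟩

theorem go212 : GO 212 := ⟨by norm_num, by rw [norm_vec]; decide, by decide +kernel, by decide +kernel,
  by decide +kernel, by decide +kernel, by decide +kernel⟩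

theorem go167 : GO 167 := ⟨by norm_num, by rw [norm_vec]; decide, by decide +kernel, by decide +kernel,
  by decide +kernel, by decide +kernel, by decide +kernel⟩

theorem go141 : GO 141 := ⟨by norm_num, by rw [norm_vec]; decide, by decide +kernel, by decide +kernel,
  by decide +kernel, by decide +kernel, by decide +kernel⟩

theorem go58 : GO 58 := ⟨by norm_num, by rw [norm_vec]; decide, by decide +kernel, by decide +kernel, by decide +kernel,
  by decide +kernel, by decide +kernel⟩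

/-- the columns of `τ_B` -/
def tbc : List ℕ := [1, 4, 8, 2, 16, 64, 128, 32]

theorem cg_tauB : CG (tauB F2) tbc := by
  obtain ⟨c, hs⟩ := isLin_tauB (F := F2)
  refine ⟨hs.add, ?_⟩
  have h : ∀ i < 8, tbP F2 (vec (2 ^ i)) = vec (tbc.getD i 0) := by decide +kernel
  exact h

theorem wf_tbc : wf tbc = true := by decide

theorem pow_seven {G : Type} [Group G] (x : G) : x ^ 7 = x * (x * (x * (x * (x * (x * x))))) := by
  simp only [pow_succ', pow_zero, mul_one]

theorem CG.seven {M : G8 F2} {m : List ℕ} (h : CG M m) (hw : wf m = true)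
    (h7 : cmul m (cmul m (cmul m (cmul m (cmul m (cmul m m))))) = idl) : M ^ 7 = 1 := by
  have h1 := h.mul (h.mul (h.mul (h.mul (h.mul (h.mul h hw) (wf_cmul hw _)) (wf_cmul hw _)) (wf_cmul hw _))
    (wf_cmul hw _)) (wf_cmul hw _)
  rw [h7] at h1
  rw [pow_seven]
  exact h1.eq CG.one

theorem CG.sq {M : G8 F2} {m : List ℕ} (h : CG M m) (hw : wf m = true) (h2 : cmul m m = idl) : M ^ 2 = 1 := by
  have h1 := h.mul h hw
  rw [h2] at h1
  rw [pow_two]
  exact h1.eq CG.one

theorem CG.ne_one {M : G8 F2} {m : List ℕ} (h : CG M m) (i : ℕ) (hi : i < 8) (hne : vec (m.getD i 0) ≠ vec (2 ^ i)) :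
    M ≠ 1 := by
  rintro rfl
  exact hne (h.col i hi).symm

/-- **`ρ` is not radical** -/
theorem false_of_rho (h : RC (rho (CpAutOEight.good8 (F := F2)))) : False := by
  have := finite_P8 (F := F2)
  have hmem : ∀ {b : ℕ} (g : GO b), Psi _ g.t ∈ RR F2 := by
    intro b g
    refine mem_RR hF2 g.tri g.t3 ?_
    have h1 := rc_conj_aut h (Psi _ (bG (vec b) g.ne))
    rwa [rho_conj_tO _ g.norm g.ne] at h1
  -- `τ_B` is a word
  have hB : go35.t * go39.t * go84.t * go212.t = tauB F2 := by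
    have h1 : CG (go35.t * go39.t * go84.t * go212.t) tbc := by
      have h2 := ((go35.cg.mul go39.cg go39.wt).mul go84.cg go84.wt).mul go212.cg go212.wt
      have h3 : cmul (cmul (cmul (tc 35) (tc 39)) (tc 84)) (tc 212) = tbc := by decide +kernel
      rwa [h3] at h2
    exact h1.eq cg_tauB
  have hBm : Psi _ (tauB F2) ∈ RR F2 := by
    rw [← hB]
    exact Psi_mul_mem (Psi_mul_mem (Psi_mul_mem (hmem go35) (hmem go39)) (hmem go84)) (hmem go212)
  have hb := (go35.cg.mul go39.cg go39.wt).mul go167.cg go167.wt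
  have hbw : wf (cmul (cmul (tc 35) (tc 39)) (tc 167)) = true := by decide +kernel
  have hab := cg_tauB.mul hb hbw
  refine false_of_words hF2 hBm (Psi_mul_mem (Psi_mul_mem (hmem go35) (hmem go39)) (hmem go167)) tauB_pow_three
    (hb.sq hbw (by decide +kernel)) (hab.seven (wf_cmul wf_tbc _) (by decide +kernel))
    (hab.ne_one 1 (by norm_num) (by decide +kernel))

/-- **`Ψ(τ_B) ρ` is not radical** -/
theorem false_of_tauB (h : RC (Psi _ (tauB F2) * rho (CpAutOEight.good8 (F := F2)))) : False := by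
  have := finite_P8 (F := F2)
  have hBm : Psi _ (tauB F2) ∈ RR F2 := mem_RR hF2 tri_tauB tauB_pow_three h
  have hinv : ∀ {b : ℕ} (g : GO b), g.t⁻¹ = g.t * g.t := by
    intro b g
    have h1 := g.t3
    rw [pow_succ', pow_two] at h1
    exact inv_eq_of_mul_eq_one_right h1
  have hconj : ∀ {b : ℕ} (g : GO b), Psi _ (g.t * tauB F2 * g.t⁻¹) ∈ RR F2 := by
    intro b g
    exact Psi_conj_mem hF2 g.tri g.t3 hBm
  have hcg : ∀ {b : ℕ} (g : GO b), CG (g.t * tauB F2 * g.t⁻¹) (cmul (cmul (tc b) tbc) (cmul (tc b) (tc b))) := by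
    intro b g
    rw [hinv g]
    exact (g.cg.mul cg_tauB wf_tbc).mul (g.cg.mul g.cg g.wt) (wf_cmul g.wt _)
  have h3 : (go58.t * tauB F2 * go58.t⁻¹) ^ 3 = 1 := by
    rw [conj_pow, tauB_pow_three, mul_one, mul_inv_cancel]
  have hw : ∀ {b : ℕ} (g : GO b), wf (cmul (cmul (tc b) tbc) (cmul (tc b) (tc b))) = true := fun g =>
    wf_cmul (wf_cmul g.wt _) _
  have hb := (hcg go39).mul (hcg go141) (hw go141)
  have hbw := wf_cmul (hw go39) (cmul (cmul (tc 141) tbc) (cmul (tc 141) (tc 141)))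
  have hab := (hcg go58).mul hb hbw
  refine false_of_words hF2 (hconj go58) (Psi_mul_mem (hconj go39) (hconj go141)) h3
    (hb.sq hbw (by decide +kernel)) (hab.seven (wf_cmul (hw go58) _) (by decide +kernel))
    (hab.ne_one 0 (by norm_num) (by decide +kernel))

end Cfsg.Agent.H872.Rad3
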